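import Mathlib

set_option autoImplicit false

namespace Cfsg.Agent.Lib.Helper19

open MulAction

section burnside

/-- Burnside's lemma with `Nat.card`. -/
theorem burnside_natCard (H X : Type*) [Group H] [MulAction H X] [Fintype H] [Finite X] :
    ∑ h : H, Nat.card (fixedBy X h) = Nat.card (orbitRel.Quotient H X) * Nat.card H := by
  classical
  letI : Fintype X := Fintype.ofFinite X
  have h := MulAction.sum_card_fixedBy_eq_card_orbits_mul_card_group H X
  simp only [Nat.card_eq_fintype_card]
  exact h

/-- Summing over a subgroup as a filtered sum over the group. -/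
theorem sum_subgroup_eq_sum_filter {G : Type*} [Group G] [Fintype G] (D : Subgroup G)
    [DecidablePred (· ∈ D)] (f : G → ℕ) :
    ∑ d : D, f d = ∑ g ∈ Finset.univ.filter (· ∈ D), f g := by
  exact (Finset.sum_subtype (Finset.univ.filter (· ∈ D)) (by simp) f).symm

theorem card_subgroup_eq_card_filter {G : Type*} [Group G] [Fintype G] (D : Subgroup G)
    [DecidablePred (· ∈ D)] :
    Nat.card D = (Finset.univ.filter (· ∈ D)).card := by
  have h := sum_subgroup_eq_sum_filter D (fun _ => 1)
  simp only [Finset.sum_const, smul_eq_mul, mul_one] at h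
  rw [← h, Nat.card_eq_fintype_card]
  rfl

end burnside

section derange

variable (G Ω : Type*) [Group G] [MulAction G Ω]

/-- The subgroup generated by the derangements. -/
def derSubgroup : Subgroup G := Subgroup.closure {g : G | ∀ ω : Ω, g • ω ≠ ω}

theorem derSubgroup_normal : (derSubgroup G Ω).Normal := by
  constructor
  intro d hd g
  unfold derSubgroup at hd ⊢
  induction hd using Subgroup.closure_induction with
  | mem x hx =>
    apply Subgroup.subset_closure
    intro ω hω
    apply hx (g⁻¹ • ω)
    have h2 : x • g⁻¹ • ω = g⁻¹ • (g * x * g⁻¹) • ω := by simp [mul_smul]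
    rw [h2, hω]
  | one => simp
  | mul x y _ _ hx hy =>
    have : g * (x * y) * g⁻¹ = (g * x * g⁻¹) * (g * y * g⁻¹) := by group
    rw [this]
    exact Subgroup.mul_mem _ hx hy
  | inv x _ hx =>
    have : g * x⁻¹ * g⁻¹ = (g * x * g⁻¹)⁻¹ := by group
    rw [this]
    exact Subgroup.inv_mem _ hx

variable {G Ω}

theorem one_le_card_fixedBy_of_not_mem [Finite Ω] {g : G} (hg : g ∉ derSubgroup G Ω) :
    1 ≤ Nat.card (fixedBy Ω g) := by
  have h1 : ¬ ∀ ω : Ω, g • ω ≠ ω := fun h => hg (Subgroup.subset_closure h)
  simp only [ne_eq, not_forall, not_not] at h1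
  obtain ⟨ω, hω⟩ := h1
  have : Nonempty (fixedBy Ω g) := ⟨⟨ω, hω⟩⟩
  exact Nat.card_pos

/-- The derangement subgroup is transitive, and elements outside have exactly one fixed point. -/
theorem derSubgroup_key [Finite G] [Finite Ω] [IsPretransitive G Ω] [Nonempty Ω] :
    IsPretransitive (derSubgroup G Ω) Ω ∧
      ∀ g : G, g ∉ derSubgroup G Ω → Nat.card (fixedBy Ω g) = 1 := by
  classical
  letI : Fintype G := Fintype.ofFinite G
  set D := derSubgroup G Ω with hD
  have hG := burnside_natCard G Ω
  have hDb := burnside_natCard D Ω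
  have htG : Nat.card (orbitRel.Quotient G Ω) = 1 := by
    have : Subsingleton (orbitRel.Quotient G Ω) :=
      (pretransitive_iff_subsingleton_quotient G Ω).mp inferInstance
    have : Nonempty (orbitRel.Quotient G Ω) := ⟨Quotient.mk'' (Classical.arbitrary Ω)⟩
    exact Nat.card_eq_one_iff_unique.mpr ⟨inferInstance, inferInstance⟩
  rw [htG, one_mul] at hG
  have hDb' : ∑ g ∈ Finset.univ.filter (· ∈ D), Nat.card (fixedBy Ω g) =
      Nat.card (orbitRel.Quotient D Ω) * Nat.card D := by
    rw [← hDb]
    exact (sum_subgroup_eq_sum_filter D (fun g => Nat.card (fixedBy Ω g))).symm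
  have hsplit := Finset.sum_filter_add_sum_filter_not Finset.univ (· ∈ D)
    (fun g => Nat.card (fixedBy Ω g))
  have hcardsplit := Finset.card_filter_add_card_filter_not (s := (Finset.univ : Finset G))
    (p := (· ∈ D))
  rw [Finset.card_univ, ← Nat.card_eq_fintype_card, ← card_subgroup_eq_card_filter] at hcardsplit
  have hle : (Finset.univ.filter (fun g : G => ¬ g ∈ D)).card ≤
      ∑ g ∈ Finset.univ.filter (fun g : G => ¬ g ∈ D), Nat.card (fixedBy Ω g) := by
    rw [Finset.card_eq_sum_ones]
    apply Finset.sum_le_sum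
    intro g hg
    exact one_le_card_fixedBy_of_not_mem (Finset.mem_filter.mp hg).2
  have htD : 1 ≤ Nat.card (orbitRel.Quotient D Ω) := by
    have : Nonempty (orbitRel.Quotient D Ω) := ⟨Quotient.mk'' (Classical.arbitrary Ω)⟩
    exact Nat.card_pos
  have hDpos : 0 < Nat.card D := Nat.card_pos
  rw [hDb', hG] at hsplit
  have hboth : Nat.card (orbitRel.Quotient D Ω) = 1 ∧
      ∑ g ∈ Finset.univ.filter (fun g : G => ¬ g ∈ D), Nat.card (fixedBy Ω g) =
        (Finset.univ.filter (fun g : G => ¬ g ∈ D)).card := by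
    constructor
    · nlinarith
    · nlinarith
  constructor
  · rw [pretransitive_iff_subsingleton_quotient]
    exact (Nat.card_eq_one_iff_unique.mp hboth.1).1
  · intro g hg
    have h2 := hboth.2
    rw [Finset.card_eq_sum_ones] at h2
    have h3 := (Finset.sum_eq_sum_iff_of_le (s := Finset.univ.filter (fun g : G => ¬ g ∈ D))
      (f := fun _ => 1) (g := fun g => Nat.card (fixedBy Ω g)) (by
        intro g hg
        exact one_le_card_fixedBy_of_not_mem (Finset.mem_filter.mp hg).2)).mp h2.symm
    exact (h3 g (Finset.mem_filter.mpr ⟨Finset.mem_univ _, hg⟩)).symm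

theorem card_fixedBy_prod (g : G) :
    Nat.card (fixedBy (Ω × Ω) g) = Nat.card (fixedBy Ω g) * Nat.card (fixedBy Ω g) := by
  rw [← Nat.card_prod]
  apply Nat.card_congr
  exact
    { toFun := fun p => (⟨p.1.1, congrArg Prod.fst p.2⟩, ⟨p.1.2, congrArg Prod.snd p.2⟩)
      invFun := fun q => ⟨(q.1.1, q.2.1), Prod.ext q.1.2 q.2.2⟩
      left_inv := fun p => rfl
      right_inv := fun q => rfl }

/-- The rank formula for the derangement subgroup. -/
theorem derSubgroup_rank [Finite G] [Finite Ω] [IsPretransitive G Ω] [Nonempty Ω] :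
    Nat.card (orbitRel.Quotient (derSubgroup G Ω) (Ω × Ω)) + (derSubgroup G Ω).index =
      Nat.card (orbitRel.Quotient G (Ω × Ω)) * (derSubgroup G Ω).index + 1 := by
  classical
  letI : Fintype G := Fintype.ofFinite G
  obtain ⟨-, hkey⟩ := derSubgroup_key (G := G) (Ω := Ω)
  set D := derSubgroup G Ω with hD
  have hG := burnside_natCard G (Ω × Ω)
  have hDb := burnside_natCard D (Ω × Ω)
  have hDb' : ∑ g ∈ Finset.univ.filter (· ∈ D), Nat.card (fixedBy (Ω × Ω) g) =
      Nat.card (orbitRel.Quotient D (Ω × Ω)) * Nat.card D := by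
    rw [← hDb]
    exact (sum_subgroup_eq_sum_filter D (fun g => Nat.card (fixedBy (Ω × Ω) g))).symm
  have hsplit := Finset.sum_filter_add_sum_filter_not Finset.univ (· ∈ D)
    (fun g => Nat.card (fixedBy (Ω × Ω) g))
  have hcardsplit := Finset.card_filter_add_card_filter_not (s := (Finset.univ : Finset G))
    (p := (· ∈ D))
  rw [Finset.card_univ, ← Nat.card_eq_fintype_card, ← card_subgroup_eq_card_filter] at hcardsplit
  have hrest : ∑ g ∈ Finset.univ.filter (fun g : G => ¬ g ∈ D), Nat.card (fixedBy (Ω × Ω) g) =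
      (Finset.univ.filter (fun g : G => ¬ g ∈ D)).card := by
    rw [Finset.card_eq_sum_ones]
    apply Finset.sum_congr rfl
    intro g hg
    rw [card_fixedBy_prod, hkey g (Finset.mem_filter.mp hg).2]
  rw [hDb', hG, hrest] at hsplit
  have hidx := Subgroup.card_mul_index D
  have hDpos : 0 < Nat.card D := Nat.card_pos
  set d := Nat.card D
  set c := (Finset.univ.filter (fun g : G => ¬ g ∈ D)).card
  set m := D.index
  set rD := Nat.card (orbitRel.Quotient D (Ω × Ω))
  set rG := Nat.card (orbitRel.Quotient G (Ω × Ω))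
  have e3 : rG * (d * m) = rG * Nat.card G := by rw [hidx]
  have : d * (rD + m) = d * (rG * m + 1) := by nlinarith
  exact Nat.eq_of_mul_eq_mul_left hDpos this

/-- Orbit counting: an invariant set all of whose orbits have size divisible by `m` has size
divisible by `m`. -/
theorem dvd_ncard_of_orbits {A X : Type*} [Group A] [MulAction A X] [Finite X] (m : ℕ) :
    ∀ (k : ℕ) (S : Set X), S.ncard ≤ k → (∀ x ∈ S, m ∣ (orbit A x).ncard) →
      (∀ a : A, ∀ x ∈ S, a • x ∈ S) → m ∣ S.ncard := by
  intro k
  induction k with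
  | zero =>
    intro S hk _ _
    have : S.ncard = 0 := by omega
    rw [this]
    exact dvd_zero m
  | succ k ih =>
    intro S hk hdiv hinv
    rcases S.eq_empty_or_nonempty with rfl | ⟨x, hx⟩
    · simp
    · have hsub : orbit A x ⊆ S := by
        rintro _ ⟨a, rfl⟩
        exact hinv a x hx
      have hcard := Set.ncard_sdiff_add_ncard_of_subset hsub (Set.toFinite S)
      have hpos : 0 < (orbit A x).ncard :=
        (Set.ncard_pos (Set.toFinite _)).mpr ⟨x, mem_orbit_self x⟩
      have h1 : m ∣ (S \ orbit A x).ncard := by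
        apply ih
        · omega
        · intro y hy
          exact hdiv y hy.1
        · intro a y hy
          refine ⟨hinv a y hy.1, ?_⟩
          intro hmem
          apply hy.2
          have h2 : y = a⁻¹ • (a • y) := by simp
          rw [h2]
          exact MulAction.mem_orbit_of_mem_orbit a⁻¹ hmem
      rw [← hcard]
      exact dvd_add h1 (hdiv x hx)

theorem stabilizer_inf_le_derSubgroup [Finite G] [Finite Ω] [IsPretransitive G Ω] {α β : Ω}
    (hαβ : β ≠ α) : stabilizer G α ⊓ stabilizer G β ≤ derSubgroup G Ω := by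
  haveI : Nonempty Ω := ⟨α⟩
  obtain ⟨-, hkey⟩ := derSubgroup_key (G := G) (Ω := Ω)
  intro g hg
  by_contra hgD
  have h1 := hkey g hgD
  obtain ⟨hsub, -⟩ := Nat.card_eq_one_iff_unique.mp h1
  have h2 : (⟨α, hg.1⟩ : fixedBy Ω g) = ⟨β, hg.2⟩ := Subsingleton.elim _ _
  exact hαβ (congrArg Subtype.val h2).symm

theorem stabilizer_sup_derSubgroup [Finite G] [Finite Ω] [IsPretransitive G Ω] (α : Ω) :
    stabilizer G α ⊔ derSubgroup G Ω = ⊤ := by
  haveI : Nonempty Ω := ⟨α⟩
  obtain ⟨htr, -⟩ := derSubgroup_key (G := G) (Ω := Ω)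
  rw [eq_top_iff]
  intro g _
  obtain ⟨d, hd⟩ := MulAction.exists_smul_eq (derSubgroup G Ω) α (g⁻¹ • α)
  have h1 : g * (d : G) ∈ stabilizer G α := by
    rw [mem_stabilizer_iff, mul_smul]
    have : (d : G) • α = g⁻¹ • α := hd
    rw [this]
    simp
  have h2 : g = (g * (d : G)) * (d : G)⁻¹ := by group
  rw [h2]
  exact Subgroup.mul_mem_sup h1 (Subgroup.inv_mem _ d.2)

/-- Orbits of a point stabilizer away from the fixed point have size divisible by the index of
the derangement subgroup. -/
theorem orbit_ncard_eq_mul_index [Finite G] [Finite Ω] [IsPretransitive G Ω] {α β : Ω}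
    (hαβ : β ≠ α) :
    (orbit (stabilizer G α) β).ncard =
      (stabilizer G α ⊓ stabilizer G β).relIndex (derSubgroup G Ω ⊓ stabilizer G α) *
        (derSubgroup G Ω).index := by
  haveI := derSubgroup_normal G Ω
  have h1 : (orbit (stabilizer G α) β).ncard = (stabilizer (stabilizer G α) β).index :=
    (index_stabilizer (G := stabilizer G α) (x := β)).symm
  have h2 : stabilizer (stabilizer G α) β = (stabilizer G β).subgroupOf (stabilizer G α) := by
    ext a
    rw [Subgroup.mem_subgroupOf, mem_stabilizer_iff, mem_stabilizer_iff]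
    rfl
  have h3 : ((stabilizer G β).subgroupOf (stabilizer G α)).index =
      (stabilizer G β).relIndex (stabilizer G α) := rfl
  have h4 : (stabilizer G β).relIndex (stabilizer G α) =
      (stabilizer G α ⊓ stabilizer G β).relIndex (stabilizer G α) :=
    (Subgroup.inf_relIndex_left _ _).symm
  have hle1 : stabilizer G α ⊓ stabilizer G β ≤ derSubgroup G Ω ⊓ stabilizer G α :=
    le_inf (stabilizer_inf_le_derSubgroup hαβ) inf_le_left
  have h5 := Subgroup.relIndex_mul_relIndex _ _ _ hle1
    (inf_le_right : derSubgroup G Ω ⊓ stabilizer G α ≤ stabilizer G α)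
  have h6 : (derSubgroup G Ω ⊓ stabilizer G α).relIndex (stabilizer G α) =
      (derSubgroup G Ω).relIndex (stabilizer G α) := Subgroup.inf_relIndex_right _ _
  have h7 : (derSubgroup G Ω).relIndex (stabilizer G α) = (derSubgroup G Ω).index := by
    rw [← Subgroup.relIndex_sup_right (H := stabilizer G α) (K := derSubgroup G Ω),
      stabilizer_sup_derSubgroup, Subgroup.relIndex_top_right]
  rw [h1, h2, h3, h4, ← h5, h6, h7]

/-- The index of the derangement subgroup divides the size of any set invariant under a point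
stabilizer and missing the fixed point. -/
theorem index_dvd_ncard_of_invariant [Finite G] [Finite Ω] [IsPretransitive G Ω] (α : Ω)
    (S : Set Ω) (hα : α ∉ S) (hinv : ∀ a ∈ stabilizer G α, ∀ x ∈ S, a • x ∈ S) :
    (derSubgroup G Ω).index ∣ S.ncard := by
  apply dvd_ncard_of_orbits (A := stabilizer G α) (derSubgroup G Ω).index S.ncard S le_rfl
  · intro x hx
    have hxα : x ≠ α := fun h => hα (h ▸ hx)
    rw [orbit_ncard_eq_mul_index hxα]
    exact dvd_mul_left _ _
  · intro a x hx
    exact hinv a a.2 x hx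

theorem index_dvd_card_sub_one [Finite G] [Finite Ω] [IsPretransitive G Ω] [Nonempty Ω] :
    (derSubgroup G Ω).index ∣ Nat.card Ω - 1 := by
  obtain ⟨α⟩ := ‹Nonempty Ω›
  have h := index_dvd_ncard_of_invariant (G := G) α ({α}ᶜ : Set Ω) (by simp) (by
    intro a ha x hx
    simp only [Set.mem_compl_iff, Set.mem_singleton_iff] at hx ⊢
    intro hax
    apply hx
    have : x = a⁻¹ • (a • x) := by simp
    rw [this, hax]
    exact mem_stabilizer_iff.mp (Subgroup.inv_mem _ ha))
  rwa [Set.ncard_compl, Set.ncard_singleton] at h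

end derange

end Cfsg.Agent.Lib.Helper19
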