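import Mathlib
import Cfsg.Agent.Lib.Helper19.Derange

set_option autoImplicit false

namespace Cfsg.Agent.Lib.Helper19

open MulAction

section conjcover

/-- A finite group is not covered by the conjugates of a proper subgroup. -/
theorem eq_top_of_conj_cover {T : Type*} [Group T] [Finite T] (S : Subgroup T)
    (h : ∀ t : T, ∃ u : T, u⁻¹ * t * u ∈ S) : S = ⊤ := by
  classical
  have key := derSubgroup_key (G := T) (Ω := T ⧸ S)
  have hbot : derSubgroup T (T ⧸ S) = ⊥ := by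
    unfold derSubgroup
    rw [Subgroup.closure_eq_bot_iff]
    intro g hg
    exfalso
    obtain ⟨u, hu⟩ := h g
    apply hg (u : T ⧸ S)
    show ((g * u : T) : T ⧸ S) = (u : T ⧸ S)
    rw [QuotientGroup.eq]
    have h2 : (g * u)⁻¹ * u = (u⁻¹ * g * u)⁻¹ := by group
    rw [h2]
    exact S.inv_mem hu
  rw [eq_top_iff]
  intro t _
  have hinst : IsPretransitive (derSubgroup T (T ⧸ S)) (T ⧸ S) := key.1
  obtain ⟨d, hd⟩ := hinst.exists_smul_eq ((1 : T) : T ⧸ S) (t : T ⧸ S)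
  have hd1 : (d : T) = 1 := by
    have h1 : (d : T) ∈ derSubgroup T (T ⧸ S) := d.2
    have h2 : (d : T) ∈ (⊥ : Subgroup T) := hbot ▸ h1
    exact Subgroup.mem_bot.mp h2
  have hd' : ((d : T) • ((1 : T) : T ⧸ S)) = (t : T ⧸ S) := hd
  rw [hd1, one_smul, QuotientGroup.eq, inv_one, one_mul] at hd'
  exact hd'

/-- A nontrivial finite group all of whose nonidentity elements have the same order has a
nontrivial centre. -/
theorem center_ne_bot_of_orderOf_const {T : Type*} [Group T] [Finite T] [Nontrivial T]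
    (h : ∀ a b : T, a ≠ 1 → b ≠ 1 → orderOf a = orderOf b) : Subgroup.center T ≠ ⊥ := by
  have hcard : Nat.card T ≠ 1 := by
    intro h1
    have := (Nat.card_eq_one_iff_unique.mp h1).1
    exact not_subsingleton T this
  obtain ⟨p, hp, hpd⟩ := Nat.exists_prime_and_dvd hcard
  have : Fact p.Prime := ⟨hp⟩
  obtain ⟨x, hx⟩ := exists_prime_orderOf_dvd_card' p hpd
  have hx1 : x ≠ 1 := by
    rintro rfl
    rw [orderOf_one] at hx
    exact hp.one_lt.ne hx
  have hP : IsPGroup p T := by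
    intro g
    by_cases hg : g = 1
    · exact ⟨0, by rw [hg]; simp⟩
    · refine ⟨1, ?_⟩
      rw [pow_one, ← hx, h x g hx1 hg]
      exact pow_orderOf_eq_one g
  have : Nontrivial (Subgroup.center T) := hP.center_nontrivial
  exact (Subgroup.nontrivial_iff_ne_bot _).mp inferInstance

end conjcover

section prod

variable {ι T : Type*} [DecidableEq ι] [Group T]

theorem conj_mulSingle (p : ι → T) (i : ι) (t : T) :
    p⁻¹ * Pi.mulSingle i t * p = Pi.mulSingle i ((p i)⁻¹ * t * p i) := by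
  funext j
  by_cases hj : j = i
  · subst hj; simp
  · simp [Pi.mulSingle_eq_of_ne hj]

theorem conj_mulSingle_mul (p : ι → T) (i₁ i₂ : ι) (a b : T) :
    p⁻¹ * (Pi.mulSingle i₁ a * Pi.mulSingle i₂ b) * p =
      Pi.mulSingle i₁ ((p i₁)⁻¹ * a * p i₁) * Pi.mulSingle i₂ ((p i₂)⁻¹ * b * p i₂) := by
  have h : p⁻¹ * (Pi.mulSingle i₁ a * Pi.mulSingle i₂ b) * p =
      (p⁻¹ * Pi.mulSingle i₁ a * p) * (p⁻¹ * Pi.mulSingle i₂ b * p) := by group
  rw [h, conj_mulSingle, conj_mulSingle]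

variable {G Ω : Type*} [Group G] [MulAction G Ω] (θ : (ι → T) →* G)

/-- If a coordinate factor fixes one point and the whole product is transitive, the factor acts
trivially. -/
theorem triv_of_fix (htr : ∀ ω ω' : Ω, ∃ p : ι → T, θ p • ω = ω') (i : ι) (ω₀ : Ω)
    (h : ∀ t : T, θ (Pi.mulSingle i t) • ω₀ = ω₀) (t : T) (ω : Ω) :
    θ (Pi.mulSingle i t) • ω = ω := by
  obtain ⟨p, hp⟩ := htr ω₀ ω
  have h1 := h ((p i)⁻¹ * t * p i)
  rw [← conj_mulSingle, map_mul, map_mul, map_inv, mul_smul, mul_smul, hp, inv_smul_eq_iff] at h1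
  rw [h1, hp]

/-- Each coordinate factor that acts nontrivially contains a derangement. -/
theorem exists_single_derangement [Finite T] (htr : ∀ ω ω' : Ω, ∃ p : ι → T, θ p • ω = ω')
    (i : ι) (hfaith : ∃ (t : T) (ω : Ω), θ (Pi.mulSingle i t) • ω ≠ ω) :
    ∃ t : T, ∀ ω : Ω, θ (Pi.mulSingle i t) • ω ≠ ω := by
  by_contra hcon
  push Not at hcon
  obtain ⟨t₀, ω₀, h₀⟩ := hfaith
  let S : Subgroup T :=
    (MulAction.stabilizer G ω₀).comap (θ.comp (MonoidHom.mulSingle (fun _ => T) i))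
  have hS : S = ⊤ := by
    apply eq_top_of_conj_cover
    intro t
    obtain ⟨ω, hω⟩ := hcon t
    obtain ⟨p, hp⟩ := htr ω₀ ω
    refine ⟨p i, ?_⟩
    show θ (Pi.mulSingle i ((p i)⁻¹ * t * p i)) • ω₀ = ω₀
    rw [← conj_mulSingle, map_mul, map_mul, map_inv, mul_smul, mul_smul, hp, hω, ← hp,
      inv_smul_smul]
  apply h₀
  apply triv_of_fix θ htr i ω₀
  intro t
  have ht : t ∈ S := by rw [hS]; trivial
  exact ht

/-- Two coordinate factors of a transitive power of a nonabelian simple group, neither acting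
trivially: some product of nonidentity elements of the two factors is a derangement. -/
theorem exists_pair_derangement [Finite T] [IsSimpleGroup T] (hT : ¬ ∀ a b : T, a * b = b * a)
    (htr : ∀ ω ω' : Ω, ∃ p : ι → T, θ p • ω = ω') {i₁ i₂ : ι} (h12 : i₁ ≠ i₂)
    (hf₁ : ∃ (t : T) (ω : Ω), θ (Pi.mulSingle i₁ t) • ω ≠ ω)
    (hf₂ : ∃ (t : T) (ω : Ω), θ (Pi.mulSingle i₂ t) • ω ≠ ω) :
    ∃ a b : T, a ≠ 1 ∧ b ≠ 1 ∧ ∀ ω : Ω, θ (Pi.mulSingle i₁ a * Pi.mulSingle i₂ b) • ω ≠ ω := by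
  by_contra hcon
  push Not at hcon
  obtain ⟨t₁, ω₀, h₁⟩ := hf₁
  obtain ⟨t₂, ω₂, h₂⟩ := hf₂
  let ν : T × T →* (ι → T) :=
    MonoidHom.noncommCoprod (MonoidHom.mulSingle (fun _ => T) i₁)
      (MonoidHom.mulSingle (fun _ => T) i₂) (fun a b => Pi.mulSingle_commute (f := fun _ : ι => T) h12 a b)
  have hν : ∀ a b : T, ν (a, b) = Pi.mulSingle i₁ a * Pi.mulSingle i₂ b := fun a b => rfl
  let S : Subgroup (T × T) := (MulAction.stabilizer G ω₀).comap (θ.comp ν)
  have hSmem : ∀ a b : T, (a, b) ∈ S ↔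
      θ (Pi.mulSingle i₁ a * Pi.mulSingle i₂ b) • ω₀ = ω₀ := fun a b => Iff.rfl
  have H : ∀ a b : T, a ≠ 1 → b ≠ 1 → ∃ u v : T, (u⁻¹ * a * u, v⁻¹ * b * v) ∈ S := by
    intro a b ha hb
    obtain ⟨ω, hω⟩ := hcon a b ha hb
    obtain ⟨p, hp⟩ := htr ω₀ ω
    refine ⟨p i₁, p i₂, ?_⟩
    rw [hSmem, ← conj_mulSingle_mul, map_mul, map_mul, map_inv, mul_smul, mul_smul, hp, hω,
      ← hp, inv_smul_smul]
  obtain ⟨b₀, hb₀⟩ := exists_ne (1 : T)
  have hπ₁ : ∀ u : T, ∃ v : T, (u, v) ∈ S := by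
    have htop : S.map (MonoidHom.fst T T) = ⊤ := by
      apply eq_top_of_conj_cover
      intro t
      by_cases ht : t = 1
      · exact ⟨1, by rw [ht]; simp⟩
      · obtain ⟨u, v, huv⟩ := H t b₀ ht hb₀
        exact ⟨u, Subgroup.mem_map.mpr ⟨_, huv, rfl⟩⟩
    intro u
    have hu : u ∈ S.map (MonoidHom.fst T T) := by rw [htop]; trivial
    obtain ⟨x, hx, hxu⟩ := Subgroup.mem_map.mp hu
    refine ⟨x.2, ?_⟩
    have : (u, x.2) = x := by rw [← hxu]; rfl
    rw [this]
    exact hx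
  have hπ₂ : ∀ v : T, ∃ u : T, (u, v) ∈ S := by
    have htop : S.map (MonoidHom.snd T T) = ⊤ := by
      apply eq_top_of_conj_cover
      intro t
      by_cases ht : t = 1
      · exact ⟨1, by rw [ht]; simp⟩
      · obtain ⟨u, v, huv⟩ := H b₀ t hb₀ ht
        exact ⟨v, Subgroup.mem_map.mpr ⟨_, huv, rfl⟩⟩
    intro v
    have hv : v ∈ S.map (MonoidHom.snd T T) := by rw [htop]; trivial
    obtain ⟨x, hx, hxv⟩ := Subgroup.mem_map.mp hv
    refine ⟨x.1, ?_⟩
    have : (x.1, v) = x := by rw [← hxv]; rfl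
    rw [this]
    exact hx
  -- the two kernels are trivial
  have hK₁ : ∀ a : T, (a, (1 : T)) ∈ S → a = 1 := by
    let K₁ : Subgroup T := S.comap (MonoidHom.inl T T)
    have hn : K₁.Normal := by
      constructor
      intro a ha u
      obtain ⟨v, hv⟩ := hπ₁ u
      show (u * a * u⁻¹, (1 : T)) ∈ S
      have e : ((u * a * u⁻¹, (1 : T)) : T × T) = (u, v) * (a, 1) * (u, v)⁻¹ := by
        ext <;> simp
      rw [e]
      exact S.mul_mem (S.mul_mem hv ha) (S.inv_mem hv)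
    rcases IsSimpleGroup.eq_bot_or_eq_top_of_normal K₁ hn with hb | ht
    · intro a ha
      have ha' : a ∈ K₁ := ha
      rw [hb, Subgroup.mem_bot] at ha'
      exact ha'
    · exfalso
      apply h₁
      apply triv_of_fix θ htr i₁ ω₀
      intro t
      have ht' : t ∈ K₁ := by rw [ht]; trivial
      have ht'' : (t, (1 : T)) ∈ S := ht'
      rw [hSmem, Pi.mulSingle_one, mul_one] at ht''
      exact ht''
  have hK₂ : ∀ b : T, ((1 : T), b) ∈ S → b = 1 := by
    let K₂ : Subgroup T := S.comap (MonoidHom.inr T T)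
    have hn : K₂.Normal := by
      constructor
      intro b hb v
      obtain ⟨u, hu⟩ := hπ₂ v
      show ((1 : T), v * b * v⁻¹) ∈ S
      have e : (((1 : T), v * b * v⁻¹) : T × T) = (u, v) * (1, b) * (u, v)⁻¹ := by
        ext <;> simp
      rw [e]
      exact S.mul_mem (S.mul_mem hu hb) (S.inv_mem hu)
    rcases IsSimpleGroup.eq_bot_or_eq_top_of_normal K₂ hn with hb | ht
    · intro b hb'
      have hb'' : b ∈ K₂ := hb'
      rw [hb, Subgroup.mem_bot] at hb''
      exact hb''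
    · exfalso
      apply h₂
      apply triv_of_fix θ htr i₂ ω₀
      intro t
      have ht' : t ∈ K₂ := by rw [ht]; trivial
      have ht'' : ((1 : T), t) ∈ S := ht'
      rw [hSmem, Pi.mulSingle_one, one_mul] at ht''
      exact ht''
  -- all nonidentity elements of `T` have the same order
  have hord : ∀ b b' : T, b ≠ 1 → b' ≠ 1 → orderOf b = orderOf b' := by
    intro b b' hb hb'
    obtain ⟨u, v, h1⟩ := H b₀ b hb₀ hb
    obtain ⟨u', v', h2⟩ := H b₀ b' hb₀ hb'
    obtain ⟨z, hz⟩ := hπ₁ (u⁻¹ * u')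
    have h3 : ((1 : T), (z⁻¹ * (v⁻¹ * b * v) * z)⁻¹ * (v'⁻¹ * b' * v')) ∈ S := by
      have e : (((1 : T), (z⁻¹ * (v⁻¹ * b * v) * z)⁻¹ * (v'⁻¹ * b' * v')) : T × T) =
          ((u⁻¹ * u', z)⁻¹ * (u⁻¹ * b₀ * u, v⁻¹ * b * v) * (u⁻¹ * u', z))⁻¹ *
            (u'⁻¹ * b₀ * u', v'⁻¹ * b' * v') := by
        ext
        · simp only [Prod.fst_mul, Prod.fst_inv]
          group
        · simp only [Prod.snd_mul, Prod.snd_inv]
      rw [e]
      exact S.mul_mem (S.inv_mem (S.mul_mem (S.mul_mem (S.inv_mem hz) h1) hz)) h2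
    have h4 := hK₂ _ h3
    have h5 : b' = (v' * z⁻¹ * v⁻¹) * b * (v' * z⁻¹ * v⁻¹)⁻¹ := by
      have h6 : v'⁻¹ * b' * v' = z⁻¹ * (v⁻¹ * b * v) * z := (inv_mul_eq_one.mp h4).symm
      have h7 : b' = v' * (v'⁻¹ * b' * v') * v'⁻¹ := by group
      rw [h7, h6]
      group
    rw [h5]
    exact (MulEquiv.orderOf_eq (MulAut.conj (v' * z⁻¹ * v⁻¹)) b).symm
  have hZ := center_ne_bot_of_orderOf_const hord
  rcases IsSimpleGroup.eq_bot_or_eq_top_of_normal (Subgroup.center T) inferInstance with hb | ht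
  · exact hZ hb
  · apply hT
    intro a b
    have ha : a ∈ Subgroup.center T := by rw [ht]; trivial
    exact ((Subgroup.mem_center_iff.mp ha) b).symm

/-- No automorphism of a finite power of a nonabelian simple group maps an element supported on
one coordinate to an element with two prescribed nontrivial coordinates. -/
theorem no_aut_single_to_pair [Finite T] [IsSimpleGroup T] (hT : ¬ ∀ a b : T, a * b = b * a)
    (φ : (ι → T) ≃* (ι → T)) {i₁ i₂ : ι} (h12 : i₁ ≠ i₂) (t a b : T) (ha : a ≠ 1) (hb : b ≠ 1)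
    (h : φ (Pi.mulSingle i₁ t) = Pi.mulSingle i₁ a * Pi.mulSingle i₂ b) : False := by
  let R : Subgroup (ι → T) := (MonoidHom.mulSingle (fun _ => T) i₁).range
  have hRn : R.Normal := by
    constructor
    rintro x ⟨s, rfl⟩ p
    refine ⟨p i₁ * s * (p i₁)⁻¹, ?_⟩
    have := conj_mulSingle p⁻¹ i₁ s
    rw [inv_inv] at this
    show Pi.mulSingle i₁ (p i₁ * s * (p i₁)⁻¹) = p * Pi.mulSingle i₁ s * p⁻¹
    rw [this]
    simp
  let L : Subgroup (ι → T) := R.map φ.toMonoidHom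
  have hLn : L.Normal := hRn.map φ.toMonoidHom φ.surjective
  have hyL : Pi.mulSingle i₁ a * Pi.mulSingle i₂ b ∈ L := by
    rw [← h]
    exact Subgroup.mem_map.mpr ⟨_, ⟨t, rfl⟩, rfl⟩
  let K : Subgroup T := L.comap (MonoidHom.mulSingle (fun _ => T) i₁)
  have hKn : K.Normal := hLn.comap _
  -- the centre of `T` is trivial
  have hZ : ∃ c : T, a * c * a⁻¹ * c⁻¹ ≠ 1 := by
    by_contra hcon
    push Not at hcon
    rcases IsSimpleGroup.eq_bot_or_eq_top_of_normal (Subgroup.center T) inferInstance with hb | ht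
    · have hac : a ∈ Subgroup.center T := by
        rw [Subgroup.mem_center_iff]
        intro c
        have h1 := hcon c
        have h2 : a * c = (a * c * a⁻¹ * c⁻¹) * (c * a) := by group
        rw [h2, h1, one_mul]
      rw [hb, Subgroup.mem_bot] at hac
      exact ha hac
    · apply hT
      intro x y
      have hx : x ∈ Subgroup.center T := by rw [ht]; trivial
      exact ((Subgroup.mem_center_iff.mp hx) y).symm
  obtain ⟨c, hc⟩ := hZ
  have hcK : a * c * a⁻¹ * c⁻¹ ∈ K := by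
    show Pi.mulSingle i₁ (a * c * a⁻¹ * c⁻¹) ∈ L
    have e : (Pi.mulSingle i₁ (a * c * a⁻¹ * c⁻¹) : ι → T) =
        (Pi.mulSingle i₁ a * Pi.mulSingle i₂ b) *
          ((Pi.mulSingle i₁ c : ι → T) * (Pi.mulSingle i₁ a * Pi.mulSingle i₂ b)⁻¹ *
            (Pi.mulSingle i₁ c : ι → T)⁻¹) := by
      funext j
      by_cases hj : j = i₁
      · subst hj
        simp [Pi.mulSingle_eq_of_ne h12]
        group
      · simp [Pi.mulSingle_eq_of_ne hj]
    rw [e]
    exact L.mul_mem hyL (hLn.conj_mem _ (L.inv_mem hyL) _)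
  have hKtop : K = ⊤ := by
    rcases IsSimpleGroup.eq_bot_or_eq_top_of_normal K hKn with hb' | ht
    · rw [hb', Subgroup.mem_bot] at hcK
      exact (hc hcK).elim
    · exact ht
  have hex : ∀ s : T, ∃ s' : T, φ (Pi.mulSingle i₁ s') = Pi.mulSingle i₁ s := by
    intro s
    have hs : s ∈ K := by rw [hKtop]; trivial
    have hs' : Pi.mulSingle i₁ s ∈ L := hs
    obtain ⟨x, ⟨s', rfl⟩, hx⟩ := Subgroup.mem_map.mp hs'
    exact ⟨s', hx⟩
  choose f hf using hex
  have hfinj : Function.Injective f := by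
    intro s s' hss
    have h1 := hf s
    rw [hss, hf s'] at h1
    exact (Pi.mulSingle_injective (M := fun _ => T) i₁ h1).symm
  obtain ⟨s, hs⟩ := Finite.surjective_of_injective hfinj t
  have h1 := hf s
  rw [hs, h] at h1
  have h2 := congrFun h1 i₂
  rw [Pi.mul_apply, Pi.mulSingle_eq_same, Pi.mulSingle_eq_of_ne h12.symm,
    Pi.mulSingle_eq_of_ne h12.symm, one_mul] at h2
  exact hb h2

end prod

end Cfsg.Agent.Lib.Helper19
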