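import Mathlib
import Cfsg.Agent.Lib.Helper19.ProdDer

set_option autoImplicit false

namespace Cfsg.Agent.Lib.Helper19

open MulAction

section prod2

variable {ι T : Type*} [DecidableEq ι] [Group T]

/-- An automorphism of a finite power of a nonabelian simple group maps each coordinate factor
into a coordinate factor. -/
theorem aut_factor [Finite T] [IsSimpleGroup T] (hT : ¬ ∀ a b : T, a * b = b * a)
    (φ : (ι → T) ≃* (ι → T)) (i : ι) :
    ∃ j : ι, ∀ t : T, ∃ t' : T, φ (Pi.mulSingle i t) = Pi.mulSingle j t' := by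
  let R : Subgroup (ι → T) := (MonoidHom.mulSingle (fun _ => T) i).range
  have hRn : R.Normal := by
    constructor
    rintro x ⟨s, rfl⟩ p
    refine ⟨p i * s * (p i)⁻¹, ?_⟩
    have := conj_mulSingle p⁻¹ i s
    rw [inv_inv] at this
    show Pi.mulSingle i (p i * s * (p i)⁻¹) = p * Pi.mulSingle i s * p⁻¹
    rw [this]
    simp
  let L : Subgroup (ι → T) := R.map φ.toMonoidHom
  have hLn : L.Normal := hRn.map φ.toMonoidHom φ.surjective
  obtain ⟨t₁, ht₁⟩ := exists_ne (1 : T)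
  have hy1 : φ (Pi.mulSingle i t₁) ≠ 1 := by
    intro h
    rw [← map_one φ] at h
    have h2 := congrFun (φ.injective h) i
    rw [Pi.mulSingle_eq_same] at h2
    exact ht₁ h2
  have hyL : φ (Pi.mulSingle i t₁) ∈ L := Subgroup.mem_map.mpr ⟨_, ⟨t₁, rfl⟩, rfl⟩
  obtain ⟨j, hj⟩ : ∃ j : ι, φ (Pi.mulSingle i t₁) j ≠ 1 := by
    by_contra hcon
    push Not at hcon
    exact hy1 (funext hcon)
  set y := φ (Pi.mulSingle i t₁) with hy
  let K : Subgroup T := L.comap (MonoidHom.mulSingle (fun _ => T) j)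
  have hKn : K.Normal := hLn.comap _
  have hZ : ∃ c : T, y j * c * (y j)⁻¹ * c⁻¹ ≠ 1 := by
    by_contra hcon
    push Not at hcon
    rcases IsSimpleGroup.eq_bot_or_eq_top_of_normal (Subgroup.center T) inferInstance with hb | ht
    · have hac : y j ∈ Subgroup.center T := by
        rw [Subgroup.mem_center_iff]
        intro c
        have h1 := hcon c
        have h2 : y j * c = (y j * c * (y j)⁻¹ * c⁻¹) * (c * y j) := by group
        rw [h2, h1, one_mul]
      rw [hb, Subgroup.mem_bot] at hac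
      exact hj hac
    · apply hT
      intro x z
      have hx : x ∈ Subgroup.center T := by rw [ht]; trivial
      exact ((Subgroup.mem_center_iff.mp hx) z).symm
  obtain ⟨c, hc⟩ := hZ
  have hcK : y j * c * (y j)⁻¹ * c⁻¹ ∈ K := by
    show Pi.mulSingle j (y j * c * (y j)⁻¹ * c⁻¹) ∈ L
    have e : (Pi.mulSingle j (y j * c * (y j)⁻¹ * c⁻¹) : ι → T) =
        y * ((Pi.mulSingle j c : ι → T) * y⁻¹ * (Pi.mulSingle j c : ι → T)⁻¹) := by
      funext l
      by_cases hl : l = j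
      · subst hl
        simp
        group
      · simp [Pi.mulSingle_eq_of_ne hl]
    rw [e]
    exact L.mul_mem hyL (hLn.conj_mem _ (L.inv_mem hyL) _)
  have hKtop : K = ⊤ := by
    rcases IsSimpleGroup.eq_bot_or_eq_top_of_normal K hKn with hb' | ht
    · rw [hb', Subgroup.mem_bot] at hcK
      exact (hc hcK).elim
    · exact ht
  have hex : ∀ s : T, ∃ s' : T, φ (Pi.mulSingle i s') = Pi.mulSingle j s := by
    intro s
    have hs : s ∈ K := by rw [hKtop]; trivial
    have hs' : Pi.mulSingle j s ∈ L := hs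
    obtain ⟨x, ⟨s', rfl⟩, hx⟩ := Subgroup.mem_map.mp hs'
    exact ⟨s', hx⟩
  choose f hf using hex
  have hfinj : Function.Injective f := by
    intro s s' hss
    have h1 := hf s
    rw [hss, hf s'] at h1
    exact (Pi.mulSingle_injective (M := fun _ => T) j h1).symm
  refine ⟨j, fun t => ?_⟩
  obtain ⟨s, hs⟩ := Finite.surjective_of_injective hfinj t
  exact ⟨s, by rw [← hs]; exact hf s⟩

/-- An automorphism mapping a two-coordinate element to a two-coordinate element on the same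
pair of coordinates matches the coordinate orders, possibly after a swap. -/
theorem aut_pair_orders [Finite T] [IsSimpleGroup T] (hT : ¬ ∀ a b : T, a * b = b * a)
    (φ : (ι → T) ≃* (ι → T)) {i₁ i₂ : ι} (h12 : i₁ ≠ i₂) (a b a' b' : T)
    (ha : a ≠ 1) (hb : b ≠ 1) (ha' : a' ≠ 1) (hb' : b' ≠ 1)
    (h : φ (Pi.mulSingle i₁ a * Pi.mulSingle i₂ b) = Pi.mulSingle i₁ a' * Pi.mulSingle i₂ b') :
    (orderOf a = orderOf a' ∧ orderOf b = orderOf b') ∨
      (orderOf a = orderOf b' ∧ orderOf b = orderOf a') := by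
  obtain ⟨j₁, hj₁⟩ := aut_factor hT φ i₁
  obtain ⟨j₂, hj₂⟩ := aut_factor hT φ i₂
  obtain ⟨a'', ha''⟩ := hj₁ a
  obtain ⟨b'', hb''⟩ := hj₂ b
  have hord : ∀ (i j : ι) (t t' : T), φ (Pi.mulSingle i t) = Pi.mulSingle j t' →
      orderOf t = orderOf t' := by
    intro i j t t' htt
    have h1 : orderOf (Pi.mulSingle i t : ι → T) = orderOf t :=
      orderOf_injective (MonoidHom.mulSingle (fun _ : ι => T) i)
        (Pi.mulSingle_injective (M := fun _ : ι => T) i) t
    have h2 : orderOf (Pi.mulSingle j t' : ι → T) = orderOf t' :=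
      orderOf_injective (MonoidHom.mulSingle (fun _ : ι => T) j)
        (Pi.mulSingle_injective (M := fun _ : ι => T) j) t'
    rw [← h1, ← h2, ← htt]
    exact (MulEquiv.orderOf_eq φ _).symm
  have hoa := hord _ _ _ _ ha''
  have hob := hord _ _ _ _ hb''
  have ha''1 : a'' ≠ 1 := by
    intro h1
    rw [h1, orderOf_one, orderOf_eq_one_iff] at hoa
    exact ha hoa
  have hb''1 : b'' ≠ 1 := by
    intro h1
    rw [h1, orderOf_one, orderOf_eq_one_iff] at hob
    exact hb hob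
  rw [map_mul, ha'', hb''] at h
  -- evaluate coordinates
  have hev : ∀ l : ι, (Pi.mulSingle j₁ a'' * Pi.mulSingle j₂ b'' : ι → T) l =
      (Pi.mulSingle i₁ a' * Pi.mulSingle i₂ b' : ι → T) l := fun l => congrFun h l
  have hj12 : j₁ ≠ j₂ := by
    intro hjj
    rw [hjj] at hev
    by_cases hi : i₁ = j₂
    · have h2 := hev i₂
      rw [Pi.mul_apply, Pi.mul_apply, Pi.mulSingle_eq_of_ne (hi ▸ h12.symm),
        Pi.mulSingle_eq_of_ne (hi ▸ h12.symm), Pi.mulSingle_eq_of_ne h12.symm,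
        Pi.mulSingle_eq_same, one_mul, one_mul] at h2
      exact hb' h2.symm
    · have h2 := hev i₁
      rw [Pi.mul_apply, Pi.mul_apply, Pi.mulSingle_eq_of_ne hi, Pi.mulSingle_eq_of_ne hi,
        Pi.mulSingle_eq_same, Pi.mulSingle_eq_of_ne h12, one_mul, mul_one] at h2
      exact ha' h2.symm
  have h1 := hev j₁
  rw [Pi.mul_apply, Pi.mul_apply, Pi.mulSingle_eq_same, Pi.mulSingle_eq_of_ne hj12,
    mul_one] at h1
  have h2 := hev j₂
  rw [Pi.mul_apply, Pi.mul_apply, Pi.mulSingle_eq_same, Pi.mulSingle_eq_of_ne hj12.symm,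
    one_mul] at h2
  by_cases hc1 : j₁ = i₁
  · -- then `j₂ = i₂`
    have hc2 : j₂ = i₂ := by
      by_contra hne
      rw [Pi.mulSingle_eq_of_ne (fun h' => hj12 (hc1.trans h'.symm)),
        Pi.mulSingle_eq_of_ne hne, one_mul] at h2
      exact hb''1 h2
    left
    rw [hc1, Pi.mulSingle_eq_same, Pi.mulSingle_eq_of_ne h12, mul_one] at h1
    rw [hc2, Pi.mulSingle_eq_same, Pi.mulSingle_eq_of_ne h12.symm, one_mul] at h2
    rw [hoa, hob, h1, h2]
    exact ⟨rfl, rfl⟩
  · have hc1' : j₁ = i₂ := by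
      by_contra hne
      rw [Pi.mulSingle_eq_of_ne hc1, Pi.mulSingle_eq_of_ne hne, one_mul] at h1
      exact ha''1 h1
    have hc2 : j₂ = i₁ := by
      by_contra hne
      rw [Pi.mulSingle_eq_of_ne hne,
        Pi.mulSingle_eq_of_ne (fun h' => hj12 (hc1'.trans h'.symm)), one_mul] at h2
      exact hb''1 h2
    right
    rw [hc1', Pi.mulSingle_eq_of_ne h12.symm, Pi.mulSingle_eq_same, one_mul] at h1
    rw [hc2, Pi.mulSingle_eq_same, Pi.mulSingle_eq_of_ne h12, mul_one] at h2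
    rw [hoa, hob, h1, h2]
    exact ⟨rfl, rfl⟩

variable {G Ω : Type*} [Group G] [MulAction G Ω] (θ : (ι → T) →* G)

/-- A dichotomy for two coordinate factors of a transitive power of a simple group. -/
theorem pair_dichotomy [Finite T] [IsSimpleGroup T]
    (htr : ∀ ω ω' : Ω, ∃ p : ι → T, θ p • ω = ω') {i₁ i₂ : ι} (h12 : i₁ ≠ i₂)
    (hf₁ : ∃ (t : T) (ω : Ω), θ (Pi.mulSingle i₁ t) • ω ≠ ω) :
    (∃ a : T, ∀ (b : T) (ω : Ω), θ (Pi.mulSingle i₁ a * Pi.mulSingle i₂ b) • ω ≠ ω) ∨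
    (∀ a : T, a ≠ 1 → ∀ ω : Ω, θ (Pi.mulSingle i₁ a) • ω ≠ ω) := by
  by_contra hcon
  push Not at hcon
  obtain ⟨hI, hIII⟩ := hcon
  obtain ⟨t₁, ω₀, h₁⟩ := hf₁
  let ν : T × T →* (ι → T) :=
    MonoidHom.noncommCoprod (MonoidHom.mulSingle (fun _ => T) i₁)
      (MonoidHom.mulSingle (fun _ => T) i₂)
      (fun a b => Pi.mulSingle_commute (f := fun _ : ι => T) h12 a b)
  let S : Subgroup (T × T) := (MulAction.stabilizer G ω₀).comap (θ.comp ν)
  have hSmem : ∀ a b : T, (a, b) ∈ S ↔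
      θ (Pi.mulSingle i₁ a * Pi.mulSingle i₂ b) • ω₀ = ω₀ := fun a b => Iff.rfl
  have hconj : ∀ (a b : T) (ω : Ω), θ (Pi.mulSingle i₁ a * Pi.mulSingle i₂ b) • ω = ω →
      ∃ u v : T, (u⁻¹ * a * u, v⁻¹ * b * v) ∈ S := by
    intro a b ω hω
    obtain ⟨p, hp⟩ := htr ω₀ ω
    refine ⟨p i₁, p i₂, ?_⟩
    rw [hSmem, ← conj_mulSingle_mul, map_mul, map_mul, map_inv, mul_smul, mul_smul, hp, hω,
      ← hp, inv_smul_smul]
  have hπ₁ : ∀ u : T, ∃ v : T, (u, v) ∈ S := by
    have htop : S.map (MonoidHom.fst T T) = ⊤ := by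
      apply eq_top_of_conj_cover
      intro t
      obtain ⟨b, ω, hω⟩ := hI t
      obtain ⟨u, v, huv⟩ := hconj t b ω hω
      exact ⟨u, Subgroup.mem_map.mpr ⟨_, huv, rfl⟩⟩
    intro u
    have hu : u ∈ S.map (MonoidHom.fst T T) := by rw [htop]; trivial
    obtain ⟨x, hx, hxu⟩ := Subgroup.mem_map.mp hu
    refine ⟨x.2, ?_⟩
    have : (u, x.2) = x := by rw [← hxu]; rfl
    rw [this]
    exact hx
  have hK₁ : ∀ a : T, (a, (1 : T)) ∈ S → a = 1 := by
    let K₁ : Subgroup T := S.comap (MonoidHom.inl T T)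
    have hn : K₁.Normal := by
      constructor
      intro a ha u
      obtain ⟨v, hv⟩ := hπ₁ u
      show (u * a * u⁻¹, (1 : T)) ∈ S
      have e : ((u * a * u⁻¹, (1 : T)) : T × T) = (u, v) * (a, 1) * (u, v)⁻¹ := by
        ext <;> simp
      rw [e]
      exact S.mul_mem (S.mul_mem hv ha) (S.inv_mem hv)
    rcases IsSimpleGroup.eq_bot_or_eq_top_of_normal K₁ hn with hb | ht
    · intro a ha
      have ha' : a ∈ K₁ := ha
      rw [hb, Subgroup.mem_bot] at ha'
      exact ha'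
    · exfalso
      apply h₁
      apply triv_of_fix θ htr i₁ ω₀
      intro t
      have ht' : t ∈ K₁ := by rw [ht]; trivial
      have ht'' : (t, (1 : T)) ∈ S := ht'
      rw [hSmem, Pi.mulSingle_one, mul_one] at ht''
      exact ht''
  obtain ⟨a, ha1, ω, hω⟩ := hIII
  have hω' : θ (Pi.mulSingle i₁ a * Pi.mulSingle i₂ 1) • ω = ω := by
    rw [Pi.mulSingle_one, mul_one]
    exact hω
  obtain ⟨u, v, huv⟩ := hconj a 1 ω hω'
  have h1 : v⁻¹ * (1 : T) * v = 1 := by group
  rw [h1] at huv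
  have h2 := hK₁ _ huv
  apply ha1
  have h3 : a = u * (u⁻¹ * a * u) * u⁻¹ := by group
  rw [h3, h2]
  group

end prod2

end Cfsg.Agent.Lib.Helper19
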