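import Mathlib

set_option autoImplicit false

namespace Cfsg.Agent.Lib.Helper19

/-- If `x ≠ 1` and `x ^ (q ^ k) = 1` then some power of `x` has order `q`. -/
theorem exists_pow_orderOf_eq_prime {G : Type*} [Group G] (q : ℕ) (hq : q.Prime) (x : G)
    (hx1 : x ≠ 1) (k : ℕ) (hxk : x ^ (q ^ k) = 1) : ∃ m : ℕ, orderOf (x ^ m) = q := by
  have h1 : orderOf x ∣ q ^ k := orderOf_dvd_of_pow_eq_one hxk
  obtain ⟨j, -, hj⟩ := (Nat.dvd_prime_pow hq).mp h1
  have hj0 : j ≠ 0 := by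
    rintro rfl
    rw [pow_zero, orderOf_eq_one_iff] at hj
    exact hx1 hj
  obtain ⟨i, rfl⟩ : ∃ i, j = i + 1 := ⟨j - 1, by omega⟩
  refine ⟨q ^ i, ?_⟩
  have hqi : q ^ i ≠ 0 := pow_ne_zero _ hq.ne_zero
  rw [orderOf_pow_of_dvd hqi (by rw [hj, pow_succ]; exact dvd_mul_right _ _), hj, pow_succ]
  exact Nat.mul_div_cancel_left q (Nat.pos_of_ne_zero hqi)

/-- The key computation for a Frobenius-like action on an abelian normal subgroup. -/
theorem frob_pow_card {G : Type*} [Group G] (N : Subgroup G) [N.Normal]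
    (hNc : ∀ x ∈ N, ∀ y ∈ N, x * y = y * x)
    (Q : Subgroup G) [Finite Q] (z : G) (r : ℕ) (hr : 0 < r) (hz : z ^ r = 1)
    (hzQ : ∀ f ∈ Q, z * f * z⁻¹ ∈ Q)
    (h4 : ∀ f ∈ Q, ∀ v ∈ N, (f * z * f⁻¹) * v * (f * z * f⁻¹)⁻¹ = v → v = 1)
    (h5 : ∀ v ∈ N, (∀ f ∈ Q, f * v * f⁻¹ = v) → v = 1)
    (h6 : ∀ i, 0 < i → i < r → ∀ f ∈ Q, z ^ i * f = f * z ^ i → f = 1) :
    ∀ v ∈ N, v ^ Nat.card Q = 1 := by
  classical
  letI : Fintype Q := Fintype.ofFinite Q
  letI : CommGroup N :=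
    { (inferInstance : Group N) with
      mul_comm := fun a b => Subtype.ext (hNc a a.2 b b.2) }
  let c : G →* MulAut N := MulAut.conjNormal
  have hc : ∀ (x : G) (v : N), ((c x v : N) : G) = x * v * x⁻¹ :=
    fun x v => MulAut.conjNormal_apply x v
  have hcmul : ∀ (x y : G) (v : N), c (x * y) v = c x (c y v) := by
    intro x y v
    rw [map_mul]
    rfl
  have hzQi : ∀ (i : ℕ), ∀ f ∈ Q, z ^ i * f * (z ^ i)⁻¹ ∈ Q := by
    intro i
    induction i with
    | zero =>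
      intro f hf
      simpa using hf
    | succ i ih =>
      intro f hf
      have h1 := hzQ _ (ih f hf)
      have e : z ^ (i + 1) * f * (z ^ (i + 1))⁻¹ = z * (z ^ i * f * (z ^ i)⁻¹) * z⁻¹ := by
        rw [pow_succ']
        group
      rw [e]
      exact h1
  have stepA : ∀ w : N, ∏ f : Q, c (f : G) w = 1 := by
    intro w
    have hfix : ∀ f₁ ∈ Q, f₁ * ((∏ f : Q, c (f : G) w : N) : G) * f₁⁻¹ =
        ((∏ f : Q, c (f : G) w : N) : G) := by
      intro f₁ hf₁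
      rw [← hc f₁]
      congr 1
      rw [map_prod]
      have h1 : ∀ f : Q, c f₁ (c (f : G) w) = c (((⟨f₁, hf₁⟩ : Q) * f : Q) : G) w := by
        intro f
        rw [Subgroup.coe_mul, hcmul]
      simp only [h1]
      exact Fintype.prod_equiv (Equiv.mulLeft (⟨f₁, hf₁⟩ : Q)) _ _ (fun f => rfl)
    exact Subtype.ext (h5 _ (Subtype.property _) hfix)
  have stepB : ∀ f ∈ Q, ∀ v : N, ∏ i ∈ Finset.range r, c ((f * z * f⁻¹) ^ i) v = 1 := by
    intro f hf v
    have hc₀r : (f * z * f⁻¹) ^ r = 1 := by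
      rw [conj_pow, hz]
      group
    have hshift : c (f * z * f⁻¹) (∏ i ∈ Finset.range r, c ((f * z * f⁻¹) ^ i) v) =
        ∏ i ∈ Finset.range r, c ((f * z * f⁻¹) ^ i) v := by
      rw [map_prod]
      have h1 : ∀ i, c (f * z * f⁻¹) (c ((f * z * f⁻¹) ^ i) v) =
          c ((f * z * f⁻¹) ^ (i + 1)) v := by
        intro i
        rw [pow_succ']
        exact (hcmul (f * z * f⁻¹) ((f * z * f⁻¹) ^ i) v).symm
      simp only [h1]
      have h2 := Finset.prod_range_succ' (fun i => c ((f * z * f⁻¹) ^ i) v) r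
      have h3 := Finset.prod_range_succ (fun i => c ((f * z * f⁻¹) ^ i) v) r
      rw [h3, hc₀r, pow_zero] at h2
      exact (mul_right_cancel h2).symm
    have h7 := h4 f hf _ (Subtype.property _) (by
      rw [← hc (f * z * f⁻¹)]
      exact congrArg Subtype.val hshift)
    exact Subtype.ext h7
  intro v hv
  have hP1 : ∏ f : Q, ∏ i ∈ Finset.range r, c ((f : G) * z ^ i * (f : G)⁻¹) ⟨v, hv⟩ = 1 := by
    apply Finset.prod_eq_one
    intro f _
    have h1 := stepB f f.2 ⟨v, hv⟩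
    simp only [conj_pow] at h1
    exact h1
  rw [Finset.prod_comm] at hP1
  have hi : ∀ i ∈ Finset.range r, i ≠ 0 →
      ∏ f : Q, c ((f : G) * z ^ i * (f : G)⁻¹) ⟨v, hv⟩ = 1 := by
    intro i hi hi0
    have hir : i < r := Finset.mem_range.mp hi
    let ψ : Q → Q := fun f =>
      ⟨(f : G) * (z ^ i * (f : G)⁻¹ * (z ^ i)⁻¹), Q.mul_mem f.2 (hzQi i _ (Q.inv_mem f.2))⟩
    have hψinj : Function.Injective ψ := by
      intro f f' hff'
      have h1 : (f : G) * (z ^ i * (f : G)⁻¹ * (z ^ i)⁻¹) =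
          (f' : G) * (z ^ i * (f' : G)⁻¹ * (z ^ i)⁻¹) := congrArg Subtype.val hff'
      have h3 : (f : G) * z ^ i * (f : G)⁻¹ = (f' : G) * z ^ i * (f' : G)⁻¹ := by
        have h8 := congrArg (· * z ^ i) h1
        simpa [mul_assoc] using h8
      have h2 : z ^ i * ((f' : G)⁻¹ * f) = ((f' : G)⁻¹ * f) * z ^ i := by
        calc z ^ i * ((f' : G)⁻¹ * f)
            = (f' : G)⁻¹ * ((f' : G) * z ^ i * (f' : G)⁻¹) * f := by group
          _ = (f' : G)⁻¹ * ((f : G) * z ^ i * (f : G)⁻¹) * f := by rw [h3]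
          _ = ((f' : G)⁻¹ * f) * z ^ i := by group
      have h4' := h6 i (Nat.pos_of_ne_zero hi0) hir _ (Q.mul_mem (Q.inv_mem f'.2) f.2) h2
      exact Subtype.ext (inv_mul_eq_one.mp h4').symm
    have hψbij : Function.Bijective ψ := Finite.injective_iff_bijective.mp hψinj
    have h1 : ∀ f : Q, c ((f : G) * z ^ i * (f : G)⁻¹) ⟨v, hv⟩ =
        c ((ψ f : Q) : G) (c (z ^ i) ⟨v, hv⟩) := by
      intro f
      have h9 : (f : G) * z ^ i * (f : G)⁻¹ = ((ψ f : Q) : G) * z ^ i := by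
        simp only [ψ]
        group
      rw [h9, hcmul]
    simp only [h1]
    rw [Fintype.prod_bijective ψ hψbij (fun f => c ((ψ f : Q) : G) (c (z ^ i) ⟨v, hv⟩))
      (fun f => c (f : G) (c (z ^ i) ⟨v, hv⟩)) (fun f => rfl)]
    exact stepA _
  rw [Finset.prod_eq_single 0 (fun i hi' hi0 => hi i hi' hi0)
    (fun h0 => absurd (Finset.mem_range.mpr hr) h0)] at hP1
  simp only [pow_zero, mul_one, mul_inv_cancel, map_one, MulAut.one_apply, Finset.prod_const,
    Finset.card_univ] at hP1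
  rw [Nat.card_eq_fintype_card]
  have h10 := congrArg Subtype.val hP1
  simpa using h10

/-- Configuration lemma (normal version): a normal abelian `p`-subgroup acted on by a `q`-group
normalized by an element of order `r` forces an element of mixed order. -/
theorem exists_orderOf_of_config_normal {G : Type*} [Group G] [Finite G] (p q r : ℕ)
    (hp : p.Prime) (hq : q.Prime) (hr : r.Prime) (hpq : p ≠ q) (hpr : p ≠ r) (hqr : q ≠ r)
    (N : Subgroup G) [N.Normal] (hN : N ≠ ⊥) (hNc : ∀ x ∈ N, ∀ y ∈ N, x * y = y * x)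
    (hNp : ∀ x ∈ N, x ^ p = 1)
    (Q : Subgroup G) (hQ : Q ≠ ⊥) (hQq : ∀ x ∈ Q, ∃ k : ℕ, x ^ (q ^ k) = 1)
    (z : G) (hz : orderOf z = r) (hzQ : ∀ f ∈ Q, z * f * z⁻¹ ∈ Q) :
    (∃ x : G, orderOf x = p * q) ∨ (∃ x : G, orderOf x = p * r) ∨ (∃ x : G, orderOf x = q * r) := by
  classical
  by_contra hno
  simp only [not_or, not_exists] at hno
  obtain ⟨hno1, hno2, hno3⟩ := hno
  have hfp : Fact p.Prime := ⟨hp⟩
  have hcop_pq : p.Coprime q := (Nat.coprime_primes hp hq).mpr hpq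
  have hcop_pr : p.Coprime r := (Nat.coprime_primes hp hr).mpr hpr
  have hcop_qr : q.Coprime r := (Nat.coprime_primes hq hr).mpr hqr
  have hNord : ∀ v ∈ N, v ≠ 1 → orderOf v = p := fun v hv hv1 => orderOf_eq_prime (hNp v hv) hv1
  -- an element of order q in Q
  obtain ⟨x₀, hx₀1⟩ := (Subgroup.ne_bot_iff_exists_ne_one).mp hQ
  have hx₀1' : (x₀ : G) ≠ 1 := fun h => hx₀1 (Subtype.ext h)
  obtain ⟨k₀, hk₀⟩ := hQq x₀ x₀.2
  obtain ⟨m₀, hm₀⟩ := exists_pow_orderOf_eq_prime q hq (x₀ : G) hx₀1' k₀ hk₀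
  have hf₀Q : (x₀ : G) ^ m₀ ∈ Q := Q.pow_mem x₀.2 m₀
  have h4 : ∀ f ∈ Q, ∀ v ∈ N, (f * z * f⁻¹) * v * (f * z * f⁻¹)⁻¹ = v → v = 1 := by
    intro f hf v hv hfix
    by_contra hv1
    have ho : orderOf (f * z * f⁻¹) = r := by
      have h1 := MulEquiv.orderOf_eq (MulAut.conj f) z
      rw [MulAut.conj_apply] at h1
      rw [h1, hz]
    have hcomm : Commute v (f * z * f⁻¹) := by
      have h1 : (f * z * f⁻¹) * v = v * (f * z * f⁻¹) := mul_inv_eq_iff_eq_mul.mp hfix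
      exact h1.symm
    have h2 := hcomm.orderOf_mul_eq_mul_orderOf_of_coprime (by
      rw [hNord v hv hv1, ho]; exact hcop_pr)
    rw [hNord v hv hv1, ho] at h2
    exact hno2 _ h2
  have h5 : ∀ v ∈ N, (∀ f ∈ Q, f * v * f⁻¹ = v) → v = 1 := by
    intro v hv hfix
    by_contra hv1
    have h1 := hfix _ hf₀Q
    have hcomm : Commute v ((x₀ : G) ^ m₀) := by
      have h2 : (x₀ : G) ^ m₀ * v = v * (x₀ : G) ^ m₀ := mul_inv_eq_iff_eq_mul.mp h1
      exact h2.symm
    have h3 := hcomm.orderOf_mul_eq_mul_orderOf_of_coprime (by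
      rw [hNord v hv hv1, hm₀]; exact hcop_pq)
    rw [hNord v hv hv1, hm₀] at h3
    exact hno1 _ h3
  have h6 : ∀ i, 0 < i → i < r → ∀ f ∈ Q, z ^ i * f = f * z ^ i → f = 1 := by
    intro i hi0 hir f hf hcomm
    by_contra hf1
    obtain ⟨k, hk⟩ := hQq f hf
    obtain ⟨m, hm⟩ := exists_pow_orderOf_eq_prime q hq f hf1 k hk
    have hzi : orderOf (z ^ i) = r := by
      have hcop : (orderOf z).Coprime i := by
        rw [hz]
        exact (Nat.Prime.coprime_iff_not_dvd hr).mpr (Nat.not_dvd_of_pos_of_lt hi0 hir)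
      rw [hcop.orderOf_pow, hz]
    have hcomm' : Commute (f ^ m) (z ^ i) := by
      have h1 : Commute f (z ^ i) := hcomm.symm
      exact h1.pow_left m
    have h3 := hcomm'.orderOf_mul_eq_mul_orderOf_of_coprime (by rw [hm, hzi]; exact hcop_qr)
    rw [hm, hzi] at h3
    exact hno3 _ h3
  have hzr : z ^ r = 1 := by rw [← hz]; exact pow_orderOf_eq_one z
  have hkey := frob_pow_card N hNc Q z r hr.pos hzr hzQ h4 h5 h6
  obtain ⟨v, hv1⟩ := (Subgroup.ne_bot_iff_exists_ne_one).mp hN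
  have hv1' : (v : G) ≠ 1 := fun h => hv1 (Subtype.ext h)
  have h1 := hkey v v.2
  have hQp : IsPGroup q Q := by
    intro g
    obtain ⟨k, hk⟩ := hQq g g.2
    exact ⟨k, Subtype.ext (by simpa using hk)⟩
  have hfq : Fact q.Prime := ⟨hq⟩
  obtain ⟨k, hk⟩ := IsPGroup.iff_card.mp hQp
  rw [hk] at h1
  have h2 : orderOf (v : G) ∣ q ^ k := orderOf_dvd_of_pow_eq_one h1
  rw [hNord v v.2 hv1'] at h2
  have h3 := (Nat.prime_dvd_prime_iff_eq hp hq).mp (hp.dvd_of_dvd_pow h2)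
  exact hpq h3

/-- Configuration lemma: an abelian `p`-subgroup `N` of exponent `p`, a nontrivial `q`-subgroup
`Q` normalizing `N`, and an element `z` of order `r` normalizing both force an element of
order `pq`, `pr` or `qr`. -/
theorem exists_orderOf_of_config {G : Type*} [Group G] [Finite G] (p q r : ℕ)
    (hp : p.Prime) (hq : q.Prime) (hr : r.Prime) (hpq : p ≠ q) (hpr : p ≠ r) (hqr : q ≠ r)
    (N : Subgroup G) (hN : N ≠ ⊥) (hNc : ∀ x ∈ N, ∀ y ∈ N, x * y = y * x)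
    (hNp : ∀ x ∈ N, x ^ p = 1)
    (Q : Subgroup G) (hQ : Q ≠ ⊥) (hQq : ∀ x ∈ Q, ∃ k : ℕ, x ^ (q ^ k) = 1)
    (hQN : Q ≤ Subgroup.normalizer (N : Set G))
    (z : G) (hz : orderOf z = r) (hzN : z ∈ Subgroup.normalizer (N : Set G))
    (hzQ : ∀ f ∈ Q, z * f * z⁻¹ ∈ Q) :
    (∃ x : G, orderOf x = p * q) ∨ (∃ x : G, orderOf x = p * r) ∨ (∃ x : G, orderOf x = q * r) := by
  have key := exists_orderOf_of_config_normal (G := Subgroup.normalizer (N : Set G)) p q r hp hq hr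
    hpq hpr hqr (N.subgroupOf (Subgroup.normalizer (N : Set G))) (by
      intro h
      apply hN
      rw [eq_bot_iff]
      intro v hv
      have h1 : (⟨v, Subgroup.le_normalizer hv⟩ : Subgroup.normalizer (N : Set G)) ∈
          N.subgroupOf (Subgroup.normalizer (N : Set G)) := Subgroup.mem_subgroupOf.mpr hv
      rw [h, Subgroup.mem_bot] at h1
      rw [Subgroup.mem_bot]
      exact congrArg Subtype.val h1)
    (by
      intro x hx y hy
      exact Subtype.ext (hNc _ (Subgroup.mem_subgroupOf.mp hx) _ (Subgroup.mem_subgroupOf.mp hy)))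
    (by
      intro x hx
      exact Subtype.ext (by simpa using hNp _ (Subgroup.mem_subgroupOf.mp hx)))
    (Q.subgroupOf (Subgroup.normalizer (N : Set G))) (by
      intro h
      apply hQ
      rw [eq_bot_iff]
      intro v hv
      have h1 : (⟨v, hQN hv⟩ : Subgroup.normalizer (N : Set G)) ∈
          Q.subgroupOf (Subgroup.normalizer (N : Set G)) := Subgroup.mem_subgroupOf.mpr hv
      rw [h, Subgroup.mem_bot] at h1
      rw [Subgroup.mem_bot]
      exact congrArg Subtype.val h1)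
    (by
      intro x hx
      obtain ⟨k, hk⟩ := hQq _ (Subgroup.mem_subgroupOf.mp hx)
      exact ⟨k, Subtype.ext (by simpa using hk)⟩)
    ⟨z, hzN⟩ (by rw [Subgroup.orderOf_mk]; exact hz)
    (by
      intro f hf
      rw [Subgroup.mem_subgroupOf] at hf ⊢
      exact hzQ _ hf)
  rcases key with ⟨x, hx⟩ | ⟨x, hx⟩ | ⟨x, hx⟩
  · left; exact ⟨x, by rw [Subgroup.orderOf_coe]; exact hx⟩
  · right; left; exact ⟨x, by rw [Subgroup.orderOf_coe]; exact hx⟩
  · right; right; exact ⟨x, by rw [Subgroup.orderOf_coe]; exact hx⟩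

end Cfsg.Agent.Lib.Helper19
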