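import Mathlib

set_option autoImplicit false

namespace Cfsg.Agent.Lib.Helper19

/-- Two linearly independent families with the same index type are related by a linear
automorphism. -/
theorem exists_linearEquiv_of_linearIndependent {K V : Type*} [Field K] [AddCommGroup V]
    [Module K V] [FiniteDimensional K V] {ι : Type*} (u w : ι → V)
    (hu : LinearIndependent K u) (hw : LinearIndependent K w) :
    ∃ g : V ≃ₗ[K] V, ∀ i, g (u i) = w i := by
  let bu := Module.Basis.span hu
  let bw := Module.Basis.span hw
  let f := bu.equiv bw (Equiv.refl ι)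
  obtain ⟨g, hg⟩ := Submodule.exists_linearEquiv_restrict_eq f
  refine ⟨g, fun i => ?_⟩
  have h1 := hg (bu i)
  have h2 : f (bu i) = bw i := by simp [f]
  rw [h2] at h1
  have h3 : ((bu i : Submodule.span K (Set.range u)) : V) = u i := Module.Basis.coe_span_apply hu i
  have h4 : ((bw i : Submodule.span K (Set.range w)) : V) = w i := Module.Basis.coe_span_apply hw i
  rw [h3, h4] at h1
  exact h1.symm

/-- A nonzero vector can be moved to any nonzero vector by a linear automorphism. -/
theorem exists_linearEquiv_apply_eq {K V : Type*} [Field K] [AddCommGroup V]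
    [Module K V] [FiniteDimensional K V] (u w : V) (h : u = 0 ↔ w = 0) :
    ∃ g : V ≃ₗ[K] V, g u = w := by
  by_cases hu : u = 0
  · refine ⟨LinearEquiv.refl K V, ?_⟩
    rw [hu, h.mp hu]
    simp
  · have hw : w ≠ 0 := fun hw => hu (h.mpr hw)
    obtain ⟨g, hg⟩ := exists_linearEquiv_of_linearIndependent (K := K) (fun _ : Unit => u)
      (fun _ : Unit => w) (linearIndependent_unique_iff.mpr hu) (linearIndependent_unique_iff.mpr hw)
    exact ⟨g, hg ()⟩

/-- A linearly independent pair can be moved to any linearly independent pair. -/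
theorem exists_linearEquiv_pair {K V : Type*} [Field K] [AddCommGroup V]
    [Module K V] [FiniteDimensional K V] (u₁ u₂ w₁ w₂ : V)
    (hu : LinearIndependent K ![u₁, u₂]) (hw : LinearIndependent K ![w₁, w₂]) :
    ∃ g : V ≃ₗ[K] V, g u₁ = w₁ ∧ g u₂ = w₂ := by
  obtain ⟨g, hg⟩ := exists_linearEquiv_of_linearIndependent _ _ hu hw
  exact ⟨g, by simpa using hg 0, by simpa using hg 1⟩

/-- Over the field with two elements, two distinct nonzero vectors are independent. -/
theorem linearIndependent_pair_zmod_two {V : Type*} [AddCommGroup V] [Module (ZMod 2) V]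
    (u₁ u₂ : V) (h1 : u₁ ≠ 0) (h2 : u₂ ≠ 0) (h12 : u₁ ≠ u₂) :
    LinearIndependent (ZMod 2) ![u₁, u₂] := by
  rw [LinearIndependent.pair_iff' h1]
  intro a
  fin_cases a
  · show (0 : ZMod 2) • u₁ ≠ u₂
    rw [zero_smul]
    exact h2.symm
  · show (1 : ZMod 2) • u₁ ≠ u₂
    rw [one_smul]
    exact h12

end Cfsg.Agent.Lib.Helper19
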