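import Cfsg.Agent.S3634
import Cfsg.Agent.Lib.Helper19.Spec

set_option autoImplicit false

namespace Cfsg.Agent.Lib.Helper19

universe u

/-- If `d` divides the order of `x` then some power of `x` has order `d`. -/
theorem exists_orderOf_eq_of_dvd {G : Type*} [Group G] [Finite G] (x : G) {d : ℕ}
    (hd : d ∣ orderOf x) : ∃ y : G, orderOf y = d := by
  have hpos : 0 < orderOf x := orderOf_pos x
  have hdpos : 0 < d := Nat.pos_of_dvd_of_pos hd hpos
  have h1 : orderOf x / d ∣ orderOf x := Nat.div_dvd_of_dvd hd
  have h2 : orderOf x / d ≠ 0 := by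
    have := Nat.div_pos (Nat.le_of_dvd hpos hd) hdpos
    omega
  refine ⟨x ^ (orderOf x / d), ?_⟩
  rw [orderOf_pow_of_dvd h2 h1]
  exact Nat.div_div_self hd (by omega)

/-- Lift an element order from a quotient. -/
theorem exists_orderOf_eq_of_quotient {G : Type*} [Group G] [Finite G] (V : Subgroup G) [V.Normal]
    {d : ℕ} (h : ∃ x : G ⧸ V, orderOf x = d) : ∃ y : G, orderOf y = d := by
  obtain ⟨xb, hxb⟩ := h
  obtain ⟨x, rfl⟩ := QuotientGroup.mk'_surjective V xb
  apply exists_orderOf_eq_of_dvd x
  rw [← hxb]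
  exact orderOf_map_dvd (QuotientGroup.mk' V) x

/-- A normal subgroup with `p` dividing its order and `q`, `r` dividing its index in a solvable
group gives an element of mixed order. -/
theorem exists_orderOf_of_normal_index {X : Type u} [Group X] [Finite X] [Group.IsSolvable X]
    (p q r : ℕ) (hp : p.Prime) (hq : q.Prime) (hr : r.Prime) (hpq : p ≠ q) (hpr : p ≠ r)
    (hqr : q ≠ r) :
    ∀ (n : ℕ) (K : Subgroup X), K.Normal → K.index ≤ n → p ∣ Nat.card K → q ∣ K.index →
      r ∣ K.index →
      (∃ x : X, orderOf x = p * q) ∨ (∃ x : X, orderOf x = p * r) ∨ (∃ x : X, orderOf x = q * r) := by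
  intro n
  induction n with
  | zero =>
    intro K _ hle _ _ _
    have h1 : K.index ≠ 0 := Subgroup.index_ne_zero_of_finite
    omega
  | succ n ih =>
    intro K hKn hle hpK hqK hrK
    haveI := hKn
    have hidx : K.index = Nat.card (X ⧸ K) := Subgroup.index_eq_card K
    have hidxpos : 0 < K.index := Nat.pos_of_ne_zero Subgroup.index_ne_zero_of_finite
    have hnt : Nontrivial (X ⧸ K) := by
      rw [← Finite.one_lt_card_iff_nontrivial, ← hidx]
      have h1 := Nat.le_of_dvd hidxpos hqK
      have h2 := hq.two_le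
      omega
    have htop : (⊤ : Subgroup (X ⧸ K)) ≠ ⊥ := top_ne_bot
    have hsolvtop : Group.IsSolvable (⊤ : Subgroup (X ⧸ K)) :=
      Group.isSolvable_of_isSolvable_injective (Subgroup.subtype_injective _)
    obtain ⟨Wb, w, hWn, hWne, -, hw, hWexp, -⟩ :=
      exists_normal_elementary_le (⊤ : Subgroup (X ⧸ K)) htop hsolvtop
    have hfw : Fact w.Prime := ⟨hw⟩
    have hWp : IsPGroup w Wb := fun g => ⟨1, by
      rw [pow_one]
      exact Subtype.ext (by simpa using hWexp g g.2)⟩
    obtain ⟨j, hj⟩ := IsPGroup.iff_card.mp hWp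
    have hj0 : j ≠ 0 := by
      rintro rfl
      rw [pow_zero] at hj
      exact hWne (Subgroup.eq_bot_of_card_eq Wb hj)
    have hWnormal : (Wb.comap (QuotientGroup.mk' K)).Normal := hWn.comap _
    have hKW : K ≤ Wb.comap (QuotientGroup.mk' K) := by
      intro k hk
      rw [Subgroup.mem_comap]
      have h1 : (QuotientGroup.mk' K) k = 1 := (QuotientGroup.eq_one_iff k).mpr hk
      rw [h1]
      exact Wb.one_mem
    have hWidx : (Wb.comap (QuotientGroup.mk' K)).index = Wb.index :=
      Subgroup.index_comap_of_surjective Wb (QuotientGroup.mk'_surjective K)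
    have hKidx : K.index = w ^ j * (Wb.comap (QuotientGroup.mk' K)).index := by
      rw [hidx, ← Subgroup.card_mul_index Wb, hj, hWidx]
    have hWipos : 0 < (Wb.comap (QuotientGroup.mk' K)).index :=
      Nat.pos_of_ne_zero Subgroup.index_ne_zero_of_finite
    have hcardW : Nat.card (Wb.comap (QuotientGroup.mk' K)) = Nat.card K * w ^ j := by
      have h1 := Subgroup.card_mul_index (Wb.comap (QuotientGroup.mk' K))
      have h2 := Subgroup.card_mul_index K
      rw [hKidx] at h2
      apply Nat.eq_of_mul_eq_mul_right hWipos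
      rw [h1, ← h2]
      ring
    generalize Wb.comap (QuotientGroup.mk' K) = W at hWnormal hKW hKidx hWipos hcardW
    haveI := hWnormal
    have hXW : Nat.card X / Nat.card W = W.index := by
      rw [← Subgroup.card_mul_index W, Nat.mul_div_cancel_left _ Nat.card_pos]
    by_cases hwq : w = q
    · rw [hwq] at hKidx hcardW
      have h1 : q ∣ Nat.card W / Nat.card K := by
        rw [hcardW, Nat.mul_div_cancel_left _ Nat.card_pos]
        exact dvd_pow_self q hj0
      have h2 : r ∣ Nat.card X / Nat.card W := by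
        rw [hXW]
        rw [hKidx] at hrK
        exact (Nat.Coprime.dvd_mul_left
          (Nat.Coprime.pow_right j ((Nat.coprime_primes hr hq).mpr (Ne.symm hqr)))).mp hrK
      exact Cfsg.Agent.S3634.result K W hKW p q r hp hq hr hpq hpr hqr hpK h1 h2
    · by_cases hwr : w = r
      · rw [hwr] at hKidx hcardW
        have h1 : r ∣ Nat.card W / Nat.card K := by
          rw [hcardW, Nat.mul_div_cancel_left _ Nat.card_pos]
          exact dvd_pow_self r hj0
        have h2 : q ∣ Nat.card X / Nat.card W := by
          rw [hXW]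
          rw [hKidx] at hqK
          exact (Nat.Coprime.dvd_mul_left
            (Nat.Coprime.pow_right j ((Nat.coprime_primes hq hr).mpr hqr))).mp hqK
        rcases Cfsg.Agent.S3634.result K W hKW p r q hp hr hq hpr hpq (Ne.symm hqr) hpK h1 h2
          with h | h | h
        · right; left; exact h
        · left; exact h
        · right; right
          obtain ⟨x, hx⟩ := h
          exact ⟨x, by rw [hx, mul_comm]⟩
      · apply ih W hWnormal
        · have h1 : 2 ≤ w ^ j := by
            have := Nat.one_lt_pow hj0 hw.one_lt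
            omega
          nlinarith
        · exact hpK.trans (Subgroup.card_dvd_of_le hKW)
        · rw [hKidx] at hqK
          exact (Nat.Coprime.dvd_mul_left
            (Nat.Coprime.pow_right j ((Nat.coprime_primes hq hw).mpr (Ne.symm hwq)))).mp hqK
        · rw [hKidx] at hrK
          exact (Nat.Coprime.dvd_mul_left
            (Nat.Coprime.pow_right j ((Nat.coprime_primes hr hw).mpr (Ne.symm hwr)))).mp hrK

/-- In a finite solvable group, any three distinct prime divisors of the order contain two that
are adjacent in the prime graph. -/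
theorem exists_orderOf_of_solvable_aux :
    ∀ (n : ℕ) (X : Type u) [Group X] [Finite X] [Group.IsSolvable X] (p q r : ℕ),
      p.Prime → q.Prime → r.Prime → p ≠ q → p ≠ r → q ≠ r → Nat.card X ≤ n →
      p ∣ Nat.card X → q ∣ Nat.card X → r ∣ Nat.card X →
      (∃ x : X, orderOf x = p * q) ∨ (∃ x : X, orderOf x = p * r) ∨ (∃ x : X, orderOf x = q * r) := by
  intro n
  induction n with
  | zero =>
    intro X _ _ _ p q r _ _ _ _ _ _ hle _ _ _
    have := Nat.card_pos (α := X)
    omega
  | succ n ih =>
    intro X _ _ _ p q r hp hq hr hpq hpr hqr hle hpX hqX hrX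
    have hXpos : 0 < Nat.card X := Nat.card_pos
    have hnt : Nontrivial X := by
      rw [← Finite.one_lt_card_iff_nontrivial]
      have h1 := Nat.le_of_dvd hXpos hpX
      have h2 := hp.two_le
      omega
    have htop : (⊤ : Subgroup X) ≠ ⊥ := top_ne_bot
    have hsolvtop : Group.IsSolvable (⊤ : Subgroup X) :=
      Group.isSolvable_of_isSolvable_injective (Subgroup.subtype_injective _)
    obtain ⟨V, w, hVn, hVne, -, hw, hVexp, -⟩ :=
      exists_normal_elementary_le (⊤ : Subgroup X) htop hsolvtop
    haveI := hVn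
    have hfw : Fact w.Prime := ⟨hw⟩
    have hVp : IsPGroup w V := fun g => ⟨1, by
      rw [pow_one]
      exact Subtype.ext (by simpa using hVexp g g.2)⟩
    obtain ⟨j, hj⟩ := IsPGroup.iff_card.mp hVp
    have hj0 : j ≠ 0 := by
      rintro rfl
      rw [pow_zero] at hj
      exact hVne (Subgroup.eq_bot_of_card_eq V hj)
    have hcard := Subgroup.card_mul_index V
    rw [hj] at hcard
    have hdvd : ∀ t : ℕ, t.Prime → t ≠ w → t ∣ Nat.card X → t ∣ V.index := by
      intro t ht htw htX
      rw [← hcard] at htX
      exact (Nat.Coprime.dvd_mul_left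
        (Nat.Coprime.pow_right j ((Nat.coprime_primes ht hw).mpr htw))).mp htX
    have hwV : w ∣ Nat.card V := by rw [hj]; exact dvd_pow_self w hj0
    by_cases hwp : w = p
    · rw [hwp] at hwV
      exact exists_orderOf_of_normal_index p q r hp hq hr hpq hpr hqr V.index V hVn le_rfl hwV
        (hdvd q hq (by rw [hwp]; exact Ne.symm hpq) hqX)
        (hdvd r hr (by rw [hwp]; exact Ne.symm hpr) hrX)
    by_cases hwq : w = q
    · rw [hwq] at hwV
      rcases exists_orderOf_of_normal_index q p r hq hp hr (Ne.symm hpq) hqr hpr V.index V hVn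
        le_rfl hwV (hdvd p hp (by rw [hwq]; exact hpq) hpX)
        (hdvd r hr (by rw [hwq]; exact Ne.symm hqr) hrX) with h | h | h
      · left
        obtain ⟨x, hx⟩ := h
        exact ⟨x, by rw [hx, mul_comm]⟩
      · right; right; exact h
      · right; left; exact h
    by_cases hwr : w = r
    · rw [hwr] at hwV
      rcases exists_orderOf_of_normal_index r p q hr hp hq (Ne.symm hpr) (Ne.symm hqr) hpq V.index V
        hVn le_rfl hwV (hdvd p hp (by rw [hwr]; exact hpr) hpX)
        (hdvd q hq (by rw [hwr]; exact hqr) hqX) with h | h | h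
      · right; left
        obtain ⟨x, hx⟩ := h
        exact ⟨x, by rw [hx, mul_comm]⟩
      · right; right
        obtain ⟨x, hx⟩ := h
        exact ⟨x, by rw [hx, mul_comm]⟩
      · left; exact h
    have hidx : V.index = Nat.card (X ⧸ V) := Subgroup.index_eq_card V
    have hle' : Nat.card (X ⧸ V) ≤ n := by
      rw [← hidx]
      have h1 : 2 ≤ w ^ j := by
        have := Nat.one_lt_pow hj0 hw.one_lt
        omega
      have h2 : 0 < V.index := Nat.pos_of_ne_zero Subgroup.index_ne_zero_of_finite
      nlinarith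
    have key := ih (X ⧸ V) p q r hp hq hr hpq hpr hqr hle'
      (by rw [← hidx]; exact hdvd p hp (Ne.symm hwp) hpX)
      (by rw [← hidx]; exact hdvd q hq (Ne.symm hwq) hqX)
      (by rw [← hidx]; exact hdvd r hr (Ne.symm hwr) hrX)
    rcases key with h | h | h
    · left; exact exists_orderOf_eq_of_quotient V h
    · right; left; exact exists_orderOf_eq_of_quotient V h
    · right; right; exact exists_orderOf_eq_of_quotient V h

theorem exists_orderOf_of_solvable (X : Type u) [Group X] [Finite X] [Group.IsSolvable X]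
    (p q r : ℕ) (hp : p.Prime) (hq : q.Prime) (hr : r.Prime) (hpq : p ≠ q) (hpr : p ≠ r)
    (hqr : q ≠ r) (hpX : p ∣ Nat.card X) (hqX : q ∣ Nat.card X) (hrX : r ∣ Nat.card X) :
    (∃ x : X, orderOf x = p * q) ∨ (∃ x : X, orderOf x = p * r) ∨ (∃ x : X, orderOf x = q * r) :=
  exists_orderOf_of_solvable_aux (Nat.card X) X p q r hp hq hr hpq hpr hqr le_rfl hpX hqX hrX

/-- The join of a solvable normal subgroup with a cyclic subgroup is solvable. -/
theorem isSolvable_sup_zpowers {G : Type*} [Group G] (K : Subgroup G) [K.Normal]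
    (hK : Group.IsSolvable K) (x : G) :
    Group.IsSolvable (K ⊔ Subgroup.zpowers x : Subgroup G) := by
  have hS : ∀ s ∈ K ⊔ Subgroup.zpowers x,
      (QuotientGroup.mk' K) s ∈ Subgroup.zpowers ((QuotientGroup.mk' K) x) := by
    have h1 : K ⊔ Subgroup.zpowers x ≤
        (Subgroup.zpowers ((QuotientGroup.mk' K) x)).comap (QuotientGroup.mk' K) := by
      apply sup_le
      · intro k hk
        rw [Subgroup.mem_comap]
        have h2 : (QuotientGroup.mk' K) k = 1 := (QuotientGroup.eq_one_iff k).mpr hk
        rw [h2]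
        exact Subgroup.one_mem _
      · rw [Subgroup.zpowers_le, Subgroup.mem_comap]
        exact Subgroup.mem_zpowers _
    intro s hs
    exact h1 hs
  let g : (K ⊔ Subgroup.zpowers x : Subgroup G) →* G ⧸ K :=
    (QuotientGroup.mk' K).comp (K ⊔ Subgroup.zpowers x : Subgroup G).subtype
  have hcomm : ∀ a b : g.range, a * b = b * a := by
    rintro ⟨a, ⟨s, rfl⟩⟩ ⟨b, ⟨s', rfl⟩⟩
    apply Subtype.ext
    obtain ⟨i, hi⟩ := Subgroup.mem_zpowers_iff.mp (hS s s.2)
    obtain ⟨j, hj⟩ := Subgroup.mem_zpowers_iff.mp (hS s' s'.2)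
    change g s * g s' = g s' * g s
    have e1 : g s = (QuotientGroup.mk' K) x ^ i := hi.symm
    have e2 : g s' = (QuotientGroup.mk' K) x ^ j := hj.symm
    rw [e1, e2]
    exact zpow_mul_comm _ i j
  haveI : Group.IsSolvable g.range := Group.isSolvable_of_comm hcomm
  haveI := hK
  apply Group.isSolvable_of_ker_le_range
    (Subgroup.inclusion (le_sup_left : K ≤ K ⊔ Subgroup.zpowers x)) g.rangeRestrict
  intro s hs
  rw [MonoidHom.mem_ker] at hs
  have h1 : g s = 1 := congrArg Subtype.val hs
  have h2 : (s : G) ∈ K := (QuotientGroup.eq_one_iff (s : G)).mp h1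
  exact ⟨⟨(s : G), h2⟩, Subtype.ext rfl⟩

end Cfsg.Agent.Lib.Helper19
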